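import Mathlib

/-!
Free modules over local rings with nilpotent maximal ideal.
-/

universe u v

namespace GrothLib.FamCycFlat

open Module

lemma repr_mem_of_mem_smul_top {A : Type u} [CommRing A] {M : Type v} [AddCommGroup M] [Module A M]
    {ι : Type*} (b : Basis ι A M) (I : Ideal A) {x : M} (hx : x ∈ I • (⊤ : Submodule A M)) (i : ι) :
    b.repr x i ∈ I := by
  induction hx using Submodule.smul_induction_on' with
  | smul a ha y _ => rw [map_smul, Finsupp.smul_apply, smul_eq_mul]; exact I.mul_mem_right _ ha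
  | add y _ z _ hy hz => rw [map_add, Finsupp.add_apply]; exact I.add_mem hy hz

/-- If `t ∉ J` is killed by the maximal ideal modulo `J`, then on a free module `t x ∈ J M`
forces `x ∈ 𝔪 M`. -/
lemma mem_maximal_smul_top {A : Type u} [CommRing A] [IsLocalRing A] {M : Type v} [AddCommGroup M]
    [Module A M] [Module.Free A M] (J : Ideal A) {t : A} (ht : t ∉ J) {x : M}
    (hx : t • x ∈ J • (⊤ : Submodule A M)) :
    x ∈ IsLocalRing.maximalIdeal A • (⊤ : Submodule A M) := by
  let b := Module.Free.chooseBasis A M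
  rw [← b.linearCombination_repr x, Finsupp.linearCombination_apply]
  refine Submodule.sum_mem _ fun i _ => Submodule.smul_mem_smul ?_ Submodule.mem_top
  by_contra h
  rw [IsLocalRing.mem_maximalIdeal, mem_nonunits_iff, not_not] at h
  have h1 := repr_mem_of_mem_smul_top b J hx i
  rw [map_smul, Finsupp.smul_apply, smul_eq_mul] at h1
  exact ht ((Ideal.mul_unit_mem_iff_mem J h).1 h1)

/-- An endomorphism of a free module over a local ring with nilpotent maximal ideal which is
injective modulo the maximal ideal is injective modulo every ideal. -/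
lemma mem_smul_top_of_map_mem {A : Type u} [CommRing A] [IsLocalRing A]
    (hA : IsNilpotent (IsLocalRing.maximalIdeal A)) {M : Type v} [AddCommGroup M] [Module A M]
    [Module.Free A M] (u : M →ₗ[A] M)
    (hu : ∀ z, u z ∈ IsLocalRing.maximalIdeal A • (⊤ : Submodule A M) →
      z ∈ IsLocalRing.maximalIdeal A • (⊤ : Submodule A M))
    (I : Ideal A) {z : M} (hz : u z ∈ I • (⊤ : Submodule A M)) :
    z ∈ I • (⊤ : Submodule A M) := by
  set m := IsLocalRing.maximalIdeal A with hm
  letI : Field (A ⧸ m) := Ideal.Quotient.field m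
  have hum : ∀ x ∈ m • (⊤ : Submodule A M), u x ∈ m • (⊤ : Submodule A M) := by
    intro x hx
    have := Submodule.mem_map_of_mem (f := u) hx
    rw [Submodule.map_smul''] at this
    exact Submodule.smul_mono le_rfl le_top this
  let u₀ : (M ⧸ m • (⊤ : Submodule A M)) →ₗ[A ⧸ m] (M ⧸ m • (⊤ : Submodule A M)) :=
    LinearMap.extendScalarsOfSurjective (R := A) (S := A ⧸ m) Ideal.Quotient.mk_surjective
      (Submodule.mapQ _ _ u hum)
  have hu₀ : LinearMap.ker u₀ = ⊥ := by
    refine LinearMap.ker_eq_bot'.2 fun y hy => ?_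
    obtain ⟨x, rfl⟩ := Submodule.Quotient.mk_surjective _ y
    exact (Submodule.Quotient.mk_eq_zero _).2 (hu x ((Submodule.Quotient.mk_eq_zero _).1 hy))
  obtain ⟨r₀, hr₀⟩ := u₀.exists_leftInverse_of_injective hu₀
  obtain ⟨r, hr⟩ := Module.projective_lifting_property (m • (⊤ : Submodule A M)).mkQ
    ((r₀.restrictScalars A) ∘ₗ (m • (⊤ : Submodule A M)).mkQ) (Submodule.mkQ_surjective _)
  let w : Module.End A M := 1 - r ∘ₗ u
  have hw : ∀ x, w x ∈ m • (⊤ : Submodule A M) := by
    intro x
    rw [← Submodule.Quotient.mk_eq_zero]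
    show Submodule.Quotient.mk (x - r (u x)) = 0
    have h1 := LinearMap.congr_fun hr (u x)
    have h2 := LinearMap.congr_fun hr₀ (Submodule.Quotient.mk x)
    rw [Submodule.Quotient.mk_sub, sub_eq_zero]
    exact (h1.trans h2).symm
  have hwn : ∀ (k : ℕ) (x : M), (w ^ k) x ∈ m ^ k • (⊤ : Submodule A M) := by
    intro k
    induction k with
    | zero => intro x; simp
    | succ k ih =>
      intro x
      rw [show w ^ (k + 1) = w ^ k * w from pow_succ w k, Module.End.mul_apply]
      have h1 := Submodule.mem_map_of_mem (f := w ^ k) (hw x)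
      rw [Submodule.map_smul''] at h1
      rw [pow_succ', Submodule.mul_smul]
      refine Submodule.smul_mono le_rfl ?_ h1
      rintro - ⟨y, -, rfl⟩
      exact ih y
  obtain ⟨n, hn⟩ := hA
  have hnil : IsNilpotent w := by
    refine ⟨n, LinearMap.ext fun x => ?_⟩
    have := hwn n x
    simpa [hn] using this
  have hunit : IsUnit (r ∘ₗ u : Module.End A M) := by
    have := hnil.isUnit_one_sub
    rwa [sub_sub_cancel] at this
  obtain ⟨v, hv⟩ := hunit
  have h3 : (↑v⁻¹ : Module.End A M) (r (u z)) = z := by
    have := LinearMap.congr_fun (v.inv_mul) z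
    rw [Module.End.mul_apply, hv] at this
    exact this
  have h4 := Submodule.mem_map_of_mem (f := (↑v⁻¹ : Module.End A M) ∘ₗ r) hz
  rw [Submodule.map_smul''] at h4
  rw [← h3]
  exact Submodule.smul_mono le_rfl le_top h4

end GrothLib.FamCycFlat
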