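import Groth.Prelude.Def_EGA4b
import Groth.Prelude.Def_CAlg
import Groth.Agent.Lib.FamCycFlat.Local
import Groth.Agent.Lib.Flatness.Artinian
import Groth.Agent.Lib.NormalSerre.Serre

/-!
Flatness and reducedness of the fibre over an Artinian local ring from codimension one.
-/

universe u

open IsLocalRing RingTheory.Sequence TensorProduct
open scoped Pointwise

namespace GrothLib.FamCycFlat

/-- The order isomorphism of spectra for the quotient by the nilradical. -/
noncomputable def specRedIso (B : Type u) [CommRing B] :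
    PrimeSpectrum (B ⧸ nilradical B) ≃o PrimeSpectrum B where
  toFun p := ⟨p.asIdeal.comap (Ideal.Quotient.mk _), inferInstance⟩
  invFun p := ⟨p.asIdeal.map (Ideal.Quotient.mk _), Ideal.map_isPrime_of_surjective
    Ideal.Quotient.mk_surjective (by rw [Ideal.mk_ker]; exact nilradical_le_prime _)⟩
  left_inv p := PrimeSpectrum.ext (Ideal.map_comap_of_surjective _ Ideal.Quotient.mk_surjective _)
  right_inv p := PrimeSpectrum.ext (by
    show (p.asIdeal.map _).comap _ = _
    rw [Ideal.comap_map_of_surjective _ Ideal.Quotient.mk_surjective, ← RingHom.ker_eq_comap_bot,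
      Ideal.mk_ker]
    exact sup_eq_left.2 (nilradical_le_prime _))
  map_rel_iff' {p q} := by
    show p.asIdeal.comap _ ≤ q.asIdeal.comap _ ↔ p.asIdeal ≤ q.asIdeal
    exact (Ideal.orderEmbeddingOfSurjective _ Ideal.Quotient.mk_surjective).le_iff_le

lemma height_map_nilradical {B : Type u} [CommRing B] (q : Ideal B) [q.IsPrime] :
    (q.map (Ideal.Quotient.mk (nilradical B))).height = q.height := by
  have h := Order.height_orderIso (specRedIso B).symm ⟨q, inferInstance⟩
  rw [← PrimeSpectrum.height_eq_orderHeight, ← PrimeSpectrum.height_eq_orderHeight] at h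
  exact h

variable {A B : Type u} [CommRing A] [CommRing B] [Algebra A B]

/-- Every associated prime of `B / J B` has height zero. -/
def NoEmb (B : Type u) [CommRing B] [Algebra A B] (J : Ideal A) : Prop :=
  ∀ z : B, (∀ q : Ideal B, q.IsPrime → q.height = 0 →
    ∃ s ∉ q, s * z ∈ J.map (algebraMap A B)) → z ∈ J.map (algebraMap A B)

lemma noEmb_of_forall_height [IsNoetherianRing B] (J : Ideal A)
    (h : ∀ q : Ideal B, q.IsPrime → q.height ≠ 0 → ∀ a : B,
      (∀ y, y ∈ q ↔ y * a ∈ J.map (algebraMap A B)) → False) : NoEmb B J := by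
  intro z hz
  by_contra hzn
  obtain ⟨q, hq, hle⟩ := exists_le_isAssociatedPrime_of_isNoetherianRing (R := B)
    (Ideal.Quotient.mk (J.map (algebraMap A B)) z) (fun e => hzn (Ideal.Quotient.eq_zero_iff_mem.1 e))
  rw [isAssociatedPrime_iff] at hq
  obtain ⟨hqp, a, ha⟩ := hq
  obtain ⟨a, rfl⟩ := Ideal.Quotient.mk_surjective a
  have hmem : ∀ w y : B, y ∈ (⊥ : Submodule B (B ⧸ J.map (algebraMap A B))).colon
      {Ideal.Quotient.mk (J.map (algebraMap A B)) w} ↔ y * w ∈ J.map (algebraMap A B) := fun w y => by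
    rw [Submodule.mem_colon_singleton, Submodule.mem_bot, ← Ideal.Quotient.eq_zero_iff_mem]
    rfl
  by_cases h0 : q.height = 0
  · obtain ⟨s, hs, hsz⟩ := hz q hqp h0
    exact hs (hle ((hmem z s).2 hsz))
  · exact h q hqp h0 a fun y => ha ▸ hmem a y

lemma free_of_flat [IsLocalRing A] [IsArtinianRing A] {M : Type u} [AddCommGroup M] [Module A M]
    [Module.Flat A M] : Module.Free A M := by
  have hnil : IsNilpotent (maximalIdeal A) := by
    have := IsArtinianRing.isNilpotent_jacobson_bot (R := A)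
    rwa [IsLocalRing.jacobson_eq_maximalIdeal (⊥ : Ideal A) bot_ne_top] at this
  obtain ⟨ι, v, b, hb, hspan⟩ := GrothLib.Flatness.exists_basisLift (M := M) hnil
  refine Module.Free.of_basis (Module.Basis.mk
    (Module.IsLocalRing.linearIndependent_of_flat v ?_) hspan.ge)
  have : TensorProduct.mk A (ResidueField A) M 1 ∘ v = b := funext hb
  rw [this]
  exact b.linearIndependent

lemma mem_smul_top_iff (q : Ideal B) [q.IsPrime] (J : Ideal A) (b : B) :
    algebraMap B (Localization.AtPrime q) b ∈ J • (⊤ : Submodule A (Localization.AtPrime q)) ↔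
      ∃ s ∉ q, s * b ∈ J.map (algebraMap A B) := by
  rw [Ideal.smul_top_eq_map, Submodule.restrictScalars_mem,
    IsScalarTower.algebraMap_eq A B (Localization.AtPrime q), ← Ideal.map_map,
    IsLocalization.algebraMap_mem_map_algebraMap_iff q.primeCompl]
  exact ⟨fun ⟨s, hs, h⟩ => ⟨s, hs, h⟩, fun ⟨s, hs, h⟩ => ⟨s, hs, h⟩⟩

lemma exists_mem_forall_notMem [IsNoetherianRing B] (q : Ideal B) [q.IsPrime] (hq : q.height ≠ 0) :
    ∃ x ∈ q, ∀ P ∈ minimalPrimes B, x ∉ P := by
  classical
  have hfin := minimalPrimes.finite_of_isNoetherianRing B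
  have h : ¬ (q : Set B) ⊆ ⋃ P ∈ (↑hfin.toFinset : Set (Ideal B)), (P : Set B) := by
    intro hsub
    rw [Ideal.subset_union_prime (⊥ : Ideal B) ⊥ fun P hP _ _ => (hfin.mem_toFinset.1 hP).1.1] at hsub
    obtain ⟨P, hP, hqP⟩ := hsub
    have hP' := hfin.mem_toFinset.1 hP
    have hle : P ≤ q := hP'.2 ⟨inferInstance, bot_le⟩ hqP
    exact hq (Ideal.height_eq_zero_iff.2 (le_antisymm hqP hle ▸ hP'))
  simp only [Set.subset_def, Set.mem_iUnion, not_forall, not_exists, Finset.mem_coe] at h
  obtain ⟨x, hx, hxn⟩ := h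
  exact ⟨x, hx, fun P hP hxP => hxn P (hfin.mem_toFinset.2 hP) hxP⟩

lemma mem_nilradical_iff_forall_minimal {b : B} :
    b ∈ nilradical B ↔ ∀ P : Ideal B, P ∈ minimalPrimes B → b ∈ P := by
  refine ⟨fun h P hP => ?_, fun h => ?_⟩
  · have : Ideal.IsPrime P := hP.1.1
    exact nilradical_le_prime P h
  · rw [nilradical_eq_sInf]
    refine Ideal.mem_sInf.2 fun {P} hP => ?_
    have : Ideal.IsPrime P := hP
    obtain ⟨P', hP', hle⟩ := Ideal.exists_minimalPrimes_le (show (⊥ : Ideal B) ≤ P from bot_le)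
    exact hle (h P' hP')

lemma map_le_nilradical [IsLocalRing A] [IsArtinianRing A] :
    (maximalIdeal A).map (algebraMap A B) ≤ nilradical B := by
  rw [Ideal.map_le_iff_le_comap]
  intro a ha
  rw [Ideal.mem_comap, mem_nilradical]
  obtain ⟨n, hn⟩ := IsArtinianRing.isNilpotent_jacobson_bot (R := A)
  rw [IsLocalRing.jacobson_eq_maximalIdeal (⊥ : Ideal A) bot_ne_top] at hn
  refine ⟨n, ?_⟩
  have h := Ideal.pow_mem_pow ha n
  rw [hn] at h
  rw [← map_pow, Ideal.mem_bot.1 h, map_zero]

/-- Socle elements above a proper ideal. -/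
lemma exists_socle [IsLocalRing A] [IsArtinianRing A] (J : Ideal A) (hJ : J < maximalIdeal A) :
    ∃ t, t ∉ J ∧ t ∈ maximalIdeal A ∧ ∀ y ∈ maximalIdeal A, y * t ∈ J := by
  classical
  obtain ⟨n, hn⟩ := IsArtinianRing.isNilpotent_jacobson_bot (R := A)
  rw [IsLocalRing.jacobson_eq_maximalIdeal (⊥ : Ideal A) bot_ne_top] at hn
  have hex : ∃ k, maximalIdeal A ^ k ≤ J := ⟨n, by rw [hn]; exact bot_le⟩
  have hk := Nat.find_spec hex
  set k := Nat.find hex with hk'
  have h2 : 2 ≤ k := by
    by_contra h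
    push Not at h
    have : maximalIdeal A ≤ maximalIdeal A ^ k := by
      interval_cases k
      · simp
      · simp
    exact hJ.not_ge (this.trans hk)
  have hlt : ¬ maximalIdeal A ^ (k - 1) ≤ J := Nat.find_min hex (by omega)
  obtain ⟨t, ht, htJ⟩ := SetLike.not_le_iff_exists.1 hlt
  refine ⟨t, htJ, Ideal.pow_le_self (by omega) ht, fun y hy => hk ?_⟩
  rw [show k = (k - 1) + 1 by omega, pow_succ, mul_comm y t]
  exact Ideal.mul_mem_mul ht hy

section step

variable [IsLocalRing A] [IsArtinianRing A] [IsNoetherianRing B]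
  (hflat : ∀ (q : Ideal B) [q.IsPrime], q.height ≤ 1 → Module.Flat A (Localization.AtPrime q))
  (hred : ∀ (q : Ideal B) [q.IsPrime], q.height ≤ 1 → ∀ z ∈ nilradical B,
    ∃ s ∉ q, s * z ∈ (maximalIdeal A).map (algebraMap A B))
  (hS2 : ∀ (q : Ideal B) [q.IsPrime], 2 ≤ q.height → ∀ x ∈ q, (∀ P ∈ minimalPrimes B, x ∉ P) →
    ∀ b, (∀ y ∈ q, ∃ c, y * b - x * c ∈ nilradical B) → ∃ s ∉ q, ∃ d, s * b - x * d ∈ nilradical B)

include hred in
lemma smul_nilradical_mem {J : Ideal A} (hG : NoEmb B J) {t : A}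
    (hmt : ∀ y ∈ maximalIdeal A, y * t ∈ J) {n : B} (hn : n ∈ nilradical B) :
    algebraMap A B t * n ∈ J.map (algebraMap A B) := by
  refine hG _ fun q hq h0 => ?_
  obtain ⟨s, hs, hsn⟩ := hred q (h0.trans_le bot_le) n hn
  refine ⟨s, hs, ?_⟩
  rw [mul_left_comm]
  refine Submodule.span_induction ?_ ?_ ?_ ?_ hsn
    (p := fun w _ => algebraMap A B t * w ∈ J.map (algebraMap A B))
  · rintro _ ⟨y, hy, rfl⟩
    rw [← map_mul, mul_comm t y]
    exact Ideal.mem_map_of_mem _ (hmt y hy)
  · simp
  · intro a b _ _ ha hb; rw [mul_add]; exact add_mem ha hb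
  · intro c a _ ha; rw [smul_eq_mul, mul_left_comm]; exact Ideal.mul_mem_left _ _ ha

include hflat in
lemma mem_nilradical_of_smul_mem {J : Ideal A} {t : A} (ht : t ∉ J)
    {b : B} (hb : algebraMap A B t * b ∈ J.map (algebraMap A B)) : b ∈ nilradical B := by
  rw [mem_nilradical_iff_forall_minimal]
  intro q hq
  have : q.IsPrime := hq.1.1
  have := hflat q ((Ideal.height_eq_zero_iff.2 hq).trans_le zero_le_one)
  have : Module.Free A (Localization.AtPrime q) :=
    free_of_flat
  have h1 : t • algebraMap B (Localization.AtPrime q) b ∈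
      J • (⊤ : Submodule A (Localization.AtPrime q)) := by
    rw [Algebra.smul_def, IsScalarTower.algebraMap_apply A B (Localization.AtPrime q), ← map_mul,
      mem_smul_top_iff]
    exact ⟨1, fun h => hq.1.1.ne_top ((Ideal.eq_top_iff_one q).2 h), by rwa [one_mul]⟩
  obtain ⟨s, hs, hsb⟩ := (mem_smul_top_iff q _ b).1 (mem_maximal_smul_top J ht h1)
  exact (hq.1.1.mem_or_mem (nilradical_le_prime q (map_le_nilradical hsb))).resolve_left hs

include hflat hred hS2 in
lemma noEmb_sup {J : Ideal A} (hG : NoEmb B J) {t : A} (ht : t ∉ J) (htm : t ∈ maximalIdeal A)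
    (hmt : ∀ y ∈ maximalIdeal A, y * t ∈ J) (hJm : J ≤ maximalIdeal A) :
    NoEmb B (J ⊔ Ideal.span {t}) := by
  set J' := J ⊔ Ideal.span {t} with hJ'
  refine noEmb_of_forall_height J' fun q hq h0 a ha => ?_
  have haJ : a ∉ J'.map (algebraMap A B) := fun h =>
    hq.ne_top ((Ideal.eq_top_iff_one q).2 ((ha 1).2 (by rwa [one_mul])))
  obtain ⟨x, hxq, hxmin⟩ := exists_mem_forall_notMem q h0
  have hxN : ∀ z, x * z ∈ nilradical B → z ∈ nilradical B := fun z hz =>
    mem_nilradical_iff_forall_minimal.2 fun P hP =>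
      (hP.1.1.mem_or_mem (mem_nilradical_iff_forall_minimal.1 hz P hP)).resolve_left (hxmin P hP)
  rcases le_or_gt q.height 1 with h1 | h1
  · have := hflat q h1
    have : Module.Free A (Localization.AtPrime q) := free_of_flat
    let u : Localization.AtPrime q →ₗ[A] Localization.AtPrime q :=
      LinearMap.mulLeft A (algebraMap B _ x)
    have hu : ∀ z, u z ∈ maximalIdeal A • (⊤ : Submodule A (Localization.AtPrime q)) →
        z ∈ maximalIdeal A • (⊤ : Submodule A (Localization.AtPrime q)) := by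
      intro z hz
      obtain ⟨⟨w, s⟩, hws⟩ := IsLocalization.surj q.primeCompl z
      have hunit := IsLocalization.map_units (Localization.AtPrime q) s
      rw [Ideal.smul_top_eq_map, Submodule.restrictScalars_mem] at hz ⊢
      rw [← Ideal.mul_unit_mem_iff_mem _ hunit, hws]
      have h2 : algebraMap B (Localization.AtPrime q) (x * w) ∈
          (maximalIdeal A).map (algebraMap A (Localization.AtPrime q)) := by
        rw [map_mul, ← hws, ← mul_assoc]
        exact Ideal.mul_mem_right _ _ hz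
      rw [← Submodule.restrictScalars_mem A, ← Ideal.smul_top_eq_map, mem_smul_top_iff] at h2 ⊢
      obtain ⟨s', hs', h3⟩ := h2
      have h4 : s' * w ∈ nilradical B := hxN _ (by
        rw [mul_left_comm]; exact map_le_nilradical h3)
      obtain ⟨s'', hs'', h5⟩ := hred q h1 _ h4
      exact ⟨s'' * s', fun h => (hq.mem_or_mem h).elim hs'' hs', by rwa [mul_assoc]⟩
    have h6 : u (algebraMap B _ a) ∈ J' • (⊤ : Submodule A (Localization.AtPrime q)) := by
      rw [LinearMap.mulLeft_apply, ← map_mul, mem_smul_top_iff]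
      exact ⟨1, fun h => hq.ne_top ((Ideal.eq_top_iff_one q).2 h),
        by rw [one_mul]; exact (ha x).1 hxq⟩
    have hnil : IsNilpotent (maximalIdeal A) := by
      have := IsArtinianRing.isNilpotent_jacobson_bot (R := A)
      rwa [IsLocalRing.jacobson_eq_maximalIdeal (⊥ : Ideal A) bot_ne_top] at this
    obtain ⟨s, hs, hsa⟩ := (mem_smul_top_iff q J' a).1 (mem_smul_top_of_map_mem hnil u hu J' h6)
    exact hs ((ha s).2 hsa)
  · have hJJ : J.map (algebraMap A B) ≤ J'.map (algebraMap A B) := Ideal.map_mono le_sup_left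
    have hdec : ∀ w ∈ J'.map (algebraMap A B),
        ∃ c, w - algebraMap A B t * c ∈ J.map (algebraMap A B) := by
      intro w hw
      rw [hJ', Ideal.map_sup, Ideal.map_span, Set.image_singleton, Submodule.mem_sup] at hw
      obtain ⟨j, hj, v, hv, rfl⟩ := hw
      obtain ⟨c, rfl⟩ := Ideal.mem_span_singleton'.1 hv
      exact ⟨c, by rwa [mul_comm c, add_sub_cancel_right]⟩
    obtain ⟨b, hb⟩ := hdec _ ((ha x).1 hxq)
    have hN : ∀ y ∈ q, ∃ c, y * b - x * c ∈ nilradical B := by
      intro y hy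
      obtain ⟨c, hc⟩ := hdec _ ((ha y).1 hy)
      refine ⟨c, mem_nilradical_of_smul_mem hflat ht ?_⟩
      have : algebraMap A B t * (y * b - x * c) =
          x * (y * a - algebraMap A B t * c) - y * (x * a - algebraMap A B t * b) := by ring
      rw [this]
      exact sub_mem (Ideal.mul_mem_left _ _ hc) (Ideal.mul_mem_left _ _ hb)
    obtain ⟨s, hs, d, hd⟩ := hS2 q (Order.add_one_le_of_lt h1) x hxq hxmin b hN
    have h7 : x * (s * a - algebraMap A B t * d) ∈ J.map (algebraMap A B) := by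
      have : x * (s * a - algebraMap A B t * d) =
          s * (x * a - algebraMap A B t * b) + algebraMap A B t * (s * b - x * d) := by ring
      rw [this]
      exact add_mem (Ideal.mul_mem_left _ _ hb) (smul_nilradical_mem hred hG hmt hd)
    have h8 : s * a - algebraMap A B t * d ∈ J.map (algebraMap A B) := by
      refine hG _ fun p hp hp0 => ⟨x, hxmin p ?_, h7⟩
      exact Ideal.height_eq_zero_iff.1 hp0
    refine hs ((ha s).2 ?_)
    have h9 : algebraMap A B t * d ∈ J'.map (algebraMap A B) := Ideal.mul_mem_right _ _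
      (Ideal.mem_map_of_mem _ (Submodule.mem_sup_right (Ideal.mem_span_singleton_self t)))
    simpa using add_mem (hJJ h8) h9

include hflat hred hS2 in
lemma noEmb_of_bot (h₀ : NoEmb B (⊥ : Ideal A)) (J : Ideal A) (hJ : J = maximalIdeal A) :
    NoEmb B J := by
  subst hJ
  obtain ⟨J₀, hJ₀⟩ := (wellFounded_gt (α := Ideal A)).has_min
    {J | J ≤ maximalIdeal A ∧ NoEmb B J} ⟨⊥, bot_le, h₀⟩
  rcases hJ₀.1.1.eq_or_lt with h | h
  · exact h ▸ hJ₀.1.2
  · obtain ⟨t, ht, htm, hmt⟩ := exists_socle J₀ h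
    refine absurd (show J₀ < J₀ ⊔ Ideal.span {t} from
      lt_of_le_of_ne le_sup_left fun e => ht ?_) (hJ₀.2 (J₀ ⊔ Ideal.span {t})
        ⟨sup_le h.le ((Ideal.span_singleton_le_iff_mem _).2 htm),
          noEmb_sup hflat hred hS2 hJ₀.1.2 ht htm hmt h.le⟩)
    rw [e]
    exact Submodule.mem_sup_right (Ideal.mem_span_singleton_self t)

include hflat hred hS2 in
lemma map_eq_nilradical (h₀ : NoEmb B (⊥ : Ideal A)) :
    (maximalIdeal A).map (algebraMap A B) = nilradical B := by
  refine le_antisymm map_le_nilradical fun n hn => ?_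
  exact noEmb_of_bot hflat hred hS2 h₀ _ rfl n fun q hq h0 => hred q (h0.trans_le zero_le_one) n hn

include hflat hred hS2 in
lemma flat_of_noEmb (h₀ : NoEmb B (⊥ : Ideal A)) : Module.Flat A B := by
  classical
  have hN := map_eq_nilradical hflat hred hS2 h₀
  have hnil : IsNilpotent (maximalIdeal A) := by
    have := IsArtinianRing.isNilpotent_jacobson_bot (R := A)
    rwa [IsLocalRing.jacobson_eq_maximalIdeal (⊥ : Ideal A) bot_ne_top] at this
  obtain ⟨ι, v, bas, hbas, hspan⟩ := GrothLib.Flatness.exists_basisLift (M := B) hnil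
  -- all `J`: relations have coefficients in `J`
  have hgood : ∀ J : Ideal A, J ≤ maximalIdeal A → NoEmb B J := by
    intro J
    refine (wellFounded_lt (α := Ideal A)).induction (C := fun J => J ≤ maximalIdeal A → NoEmb B J) J ?_
    intro J ih hJ
    by_cases hb : J = ⊥
    · exact hb ▸ h₀
    obtain ⟨J₁, hJ₁⟩ := (wellFounded_gt (α := Ideal A)).has_min {K | K < J} ⟨⊥, bot_lt_iff_ne_bot.2 hb⟩
    obtain ⟨x, hxJ, hxJ₁⟩ := SetLike.exists_of_lt (show J₁ < J from hJ₁.1)
    have hcov : ∀ K : Ideal A, J₁ < K → K ≤ J → K = J := fun K h1 h2 =>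
      h2.eq_or_lt.resolve_right fun h3 => hJ₁.2 K h3 h1
    have hsup : J₁ ⊔ Ideal.span {x} = J := by
      refine hcov _ (lt_of_le_of_ne le_sup_left fun e => hxJ₁ ?_)
        (sup_le hJ₁.1.le ((Ideal.span_singleton_le_iff_mem _).2 hxJ))
      rw [e]; exact Submodule.mem_sup_right (Ideal.mem_span_singleton_self x)
    have hmx : ∀ y ∈ maximalIdeal A, y * x ∈ J₁ := by
      intro y hy
      by_contra hyx
      have h3 : J₁ ⊔ Ideal.span {y * x} = J := by
        refine hcov _ (lt_of_le_of_ne le_sup_left fun e => hyx ?_)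
          (sup_le hJ₁.1.le ((Ideal.span_singleton_le_iff_mem _).2 (J.mul_mem_left y hxJ)))
        rw [e]; exact Submodule.mem_sup_right (Ideal.mem_span_singleton_self _)
      rw [← h3, Submodule.mem_sup] at hxJ
      obtain ⟨j, hj, w, hw, hjw⟩ := hxJ
      obtain ⟨c, rfl⟩ := Ideal.mem_span_singleton'.1 hw
      have hu : IsUnit (1 - c * y) :=
        IsLocalRing.isUnit_one_sub_self_of_mem_nonunits _ ((maximalIdeal A).mul_mem_left c hy)
      refine hxJ₁ ((Ideal.unit_mul_mem_iff_mem J₁ hu).1 ?_)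
      rw [show (1 - c * y) * x = j by linear_combination -hjw]
      exact hj
    rw [← hsup]
    exact noEmb_sup hflat hred hS2 (ih J₁ hJ₁.1 (hJ₁.1.le.trans hJ)) hxJ₁ (hJ hxJ) hmx
      (hJ₁.1.le.trans hJ)
  have hlin : LinearIndependent A v := by
    rw [linearIndependent_iff']
    intro S g hg
    have hmod : ∀ c : ι → A, ∑ i ∈ S, c i • v i ∈ maximalIdeal A • (⊤ : Submodule A B) →
        ∀ i ∈ S, c i ∈ maximalIdeal A := by
      intro c hc i hi
      rw [← GrothLib.Flatness.one_tmul_eq_zero_iff, tmul_sum] at hc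
      have : ∑ i ∈ S, (residue A (c i)) • bas i = 0 := by
        refine Eq.trans ?_ hc
        refine Finset.sum_congr rfl fun i _ => ?_
        rw [← hbas, ← IsLocalRing.ResidueField.algebraMap_eq, algebraMap_smul, tmul_smul]
        rfl
      exact (residue_eq_zero_iff _).1 (linearIndependent_iff'.1 bas.linearIndependent S _ this i hi)
    suffices ∀ J : Ideal A, J ≤ maximalIdeal A →
        ∀ c : ι → A, ∑ i ∈ S, c i • v i ∈ J • (⊤ : Submodule A B) → ∀ i ∈ S, c i ∈ J by
      intro i hi
      simpa using this ⊥ bot_le g (by rw [hg]; exact zero_mem _) i hi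
    intro J
    refine (wellFounded_gt (α := Ideal A)).induction (C := fun J => J ≤ maximalIdeal A →
      ∀ c : ι → A, ∑ i ∈ S, c i • v i ∈ J • (⊤ : Submodule A B) → ∀ i ∈ S, c i ∈ J) J ?_
    intro J ih hJ c hc
    rcases hJ.eq_or_lt with rfl | hlt
    · exact hmod c hc
    obtain ⟨t, ht, htm, hmt⟩ := exists_socle J hlt
    have hlt' : J < J ⊔ Ideal.span {t} := lt_of_le_of_ne le_sup_left fun e => ht (by
      rw [e]; exact Submodule.mem_sup_right (Ideal.mem_span_singleton_self t))
    have h1 := ih _ hlt' (sup_le hJ ((Ideal.span_singleton_le_iff_mem _).2 htm)) c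
      (Submodule.smul_mono le_sup_left le_rfl hc)
    have h2 : ∀ i, ∃ d : A, i ∈ S → c i - t * d ∈ J := by
      intro i
      by_cases hi : i ∈ S
      · obtain ⟨j, hj, w, hw, hjw⟩ := Submodule.mem_sup.1 (h1 i hi)
        obtain ⟨d, rfl⟩ := Ideal.mem_span_singleton'.1 hw
        exact ⟨d, fun _ => by rw [← hjw, mul_comm t d, add_sub_cancel_right]; exact hj⟩
      · exact ⟨0, fun h => absurd h hi⟩
    choose d hd using h2
    have h3 : t • ∑ i ∈ S, d i • v i ∈ J • (⊤ : Submodule A B) := by
      have h4 : ∑ i ∈ S, (c i - t * d i) • v i ∈ J • (⊤ : Submodule A B) :=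
        Submodule.sum_mem _ fun i hi => Submodule.smul_mem_smul (hd i hi) Submodule.mem_top
      have := sub_mem hc h4
      rwa [← Finset.sum_sub_distrib, Finset.sum_congr rfl fun i _ => show
        c i • v i - (c i - t * d i) • v i = t • (d i • v i) by rw [← sub_smul, sub_sub_cancel, mul_smul],
        ← Finset.smul_sum] at this
    rw [Ideal.smul_top_eq_map, Submodule.restrictScalars_mem, Algebra.smul_def] at h3
    have h5 := mem_nilradical_of_smul_mem hflat ht h3
    rw [← hN, ← Submodule.restrictScalars_mem A, ← Ideal.smul_top_eq_map] at h5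
    intro i hi
    have h6 : t * d i ∈ J := mul_comm t (d i) ▸ hmt _ (hmod d h5 i hi)
    simpa using J.add_mem (hd i hi) h6
  have : Module.Free A B := Module.Free.of_basis (Module.Basis.mk hlin hspan.ge)
  infer_instance

end step

theorem main [IsLocalRing A] [IsArtinianRing A] [IsNoetherianRing B]
    (hS1 : LocCoh.HasSk 1 B B) (hS2 : LocCoh.HasSk 2 (B ⧸ nilradical B) (B ⧸ nilradical B))
    (hcodim : ∀ (q : Ideal B) [q.IsPrime], q.height ≤ 1 →
      Module.Flat A (Localization.AtPrime q) ∧ IsReduced (EGA4.FibLocRing A B q)) :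
    IsReduced (B ⧸ (maximalIdeal A).map (algebraMap A B)) ∧ Module.Flat A B := by
  classical
  have hunder : ∀ (q : Ideal B) [q.IsPrime], q.comap (algebraMap A B) = maximalIdeal A := fun q _ =>
    IsLocalRing.eq_maximalIdeal (IsArtinianRing.isMaximal_of_isPrime _)
  have hflat : ∀ (q : Ideal B) [q.IsPrime], q.height ≤ 1 → Module.Flat A (Localization.AtPrime q) :=
    fun q _ h => (hcodim q h).1
  have hred : ∀ (q : Ideal B) [q.IsPrime], q.height ≤ 1 → ∀ z ∈ nilradical B,
      ∃ s ∉ q, s * z ∈ (maximalIdeal A).map (algebraMap A B) := by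
    intro q _ h z hz
    have := (hcodim q h).2
    rw [← mem_smul_top_iff q, Ideal.smul_top_eq_map, Submodule.restrictScalars_mem, ← hunder q,
      ← Ideal.Quotient.eq_zero_iff_mem]
    exact (((mem_nilradical.1 hz).map (algebraMap B (Localization.AtPrime q))).map
      (Ideal.Quotient.mk _)).eq_zero
  have h₀ : NoEmb B (⊥ : Ideal A) := by
    refine noEmb_of_forall_height _ fun q hq h0 a ha => ?_
    rw [Ideal.map_bot] at ha
    have h1 := hS1 q
    rw [GrothLib.NormalSerre.supportDim_localizedModule_self] at h1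
    rw [min_eq_left (show ((1 : ℕ) : WithBot ℕ∞) ≤ (q.height : WithBot ℕ∞) from
        WithBot.coe_le_coe.2 (Order.one_le_iff_ne_zero.2 h0)),
      GrothLib.NormalSerre.natCast_le_depth_iff] at h1
    obtain ⟨rs, hlen, hmem, hreg⟩ := h1
    obtain ⟨r, rfl⟩ : ∃ r, rs = [r] := List.length_eq_one_iff.1 hlen
    rw [isWeaklyRegular_singleton_iff] at hreg
    have hr := hmem r (List.mem_singleton_self r)
    obtain ⟨⟨x, s⟩, hxs⟩ := IsLocalization.surj q.primeCompl r
    have hxq : x ∈ q := by
      rw [← IsLocalization.AtPrime.to_map_mem_maximal_iff (Localization.AtPrime q) q, ← hxs]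
      exact Ideal.mul_mem_right _ _ hr
    have h2 : r • algebraMap B (Localization.AtPrime q) a = r • 0 := by
      rw [smul_zero, smul_eq_mul]
      refine (IsLocalization.map_units (Localization.AtPrime q) s).mul_left_eq_zero.1 ?_
      rw [mul_right_comm, hxs, ← map_mul, Ideal.mem_bot.1 ((ha x).1 hxq), map_zero]
    obtain ⟨s', hs'⟩ := (IsLocalization.map_eq_zero_iff q.primeCompl _ a).1 (hreg h2)
    exact s'.2 ((ha s').2 (Ideal.mem_bot.2 hs'))
  have hS2' : ∀ (q : Ideal B) [q.IsPrime], 2 ≤ q.height → ∀ x ∈ q, (∀ P ∈ minimalPrimes B, x ∉ P) →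
      ∀ b, (∀ y ∈ q, ∃ c, y * b - x * c ∈ nilradical B) →
        ∃ s ∉ q, ∃ d, s * b - x * d ∈ nilradical B := by
    intro q _ hq x hxq hxmin b hb
    set π := Ideal.Quotient.mk (nilradical B) with hπ
    have hker : RingHom.ker π ≤ q := by rw [Ideal.mk_ker]; exact nilradical_le_prime q
    have : (q.map π).IsPrime := Ideal.map_isPrime_of_surjective Ideal.Quotient.mk_surjective hker
    have h1 := hS2 (q.map π)
    rw [GrothLib.NormalSerre.supportDim_localizedModule_self, height_map_nilradical] at h1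
    rw [min_eq_left (show ((2 : ℕ) : WithBot ℕ∞) ≤ (q.height : WithBot ℕ∞) from
        WithBot.coe_le_coe.2 hq), GrothLib.NormalSerre.natCast_le_depth_iff] at h1
    obtain ⟨rs, hlen, hmem, hreg⟩ := h1
    obtain ⟨X, Y, rfl⟩ : ∃ X Y, rs = [X, Y] := List.length_eq_two.1 hlen
    rw [isWeaklyRegular_cons_iff, isWeaklyRegular_singleton_iff] at hreg
    obtain ⟨hX, hY⟩ := hreg
    let lx := algebraMap (B ⧸ nilradical B) (Localization.AtPrime (q.map π))
    have hxinj : ∀ w, lx (π x) * w = 0 → w = 0 := by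
      intro w hw
      obtain ⟨c, s, rfl⟩ := IsLocalization.exists_mk'_eq (q.map π).primeCompl w
      rw [IsLocalization.mul_mk'_eq_mk'_of_mul, IsLocalization.mk'_eq_zero_iff] at hw
      obtain ⟨m, hm⟩ := hw
      obtain ⟨c, rfl⟩ := Ideal.Quotient.mk_surjective c
      obtain ⟨m₀, hm₀⟩ := Ideal.Quotient.mk_surjective (m : B ⧸ nilradical B)
      rw [← hm₀, ← map_mul, ← map_mul, Ideal.Quotient.eq_zero_iff_mem] at hm
      rw [IsLocalization.mk'_eq_zero_iff]
      refine ⟨m, ?_⟩
      rw [← hm₀, ← map_mul, Ideal.Quotient.eq_zero_iff_mem]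
      refine mem_nilradical_iff_forall_minimal.2 fun P hP => ?_
      have := mem_nilradical_iff_forall_minimal.1 hm P hP
      rw [mul_left_comm] at this
      exact (hP.1.1.mem_or_mem this).resolve_left (hxmin P hP)
    have hdiv : ∀ z ∈ maximalIdeal (Localization.AtPrime (q.map π)),
        ∃ u, z * lx (π b) = lx (π x) * u := by
      intro z hz
      suffices z * lx (π b) ∈ Ideal.span {lx (π x)} by
        obtain ⟨c, hc⟩ := Ideal.mem_span_singleton'.1 this
        exact ⟨c, by rw [← hc, mul_comm]⟩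
      rw [← Localization.AtPrime.map_eq_maximalIdeal] at hz
      refine Submodule.span_induction ?_ ?_ ?_ ?_ hz
        (p := fun z _ => z * lx (π b) ∈ Ideal.span {lx (π x)})
      · rintro _ ⟨r, hr, rfl⟩
        obtain ⟨y, hy, rfl⟩ := (Ideal.mem_map_iff_of_surjective _ Ideal.Quotient.mk_surjective).1 hr
        obtain ⟨c, hc⟩ := hb y hy
        rw [← Ideal.Quotient.eq, map_mul, map_mul] at hc
        rw [← map_mul, hc, map_mul]
        exact Ideal.mul_mem_right _ _ (Ideal.mem_span_singleton_self _)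
      · simp
      · intro u v _ _ hu hv; rw [add_mul]; exact add_mem hu hv
      · intro c u _ hu; rw [smul_eq_mul, mul_assoc]; exact Ideal.mul_mem_left _ _ hu
    obtain ⟨u, hu⟩ := hdiv X (hmem X (by simp))
    obtain ⟨v, hv⟩ := hdiv Y (hmem Y (by simp))
    have h3 : Y * u = X * v := sub_eq_zero.1 (hxinj _ (by linear_combination (-Y) * hu + X * hv))
    have h4 : (Submodule.Quotient.mk u : QuotSMulTop X (Localization.AtPrime (q.map π))) = 0 := by
      refine hY ?_
      show Y • _ = Y • (0 : QuotSMulTop X (Localization.AtPrime (q.map π)))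
      rw [smul_zero, ← Submodule.Quotient.mk_smul, Submodule.Quotient.mk_eq_zero, smul_eq_mul, h3]
      exact Submodule.smul_mem_pointwise_smul v X ⊤ trivial
    rw [Submodule.Quotient.mk_eq_zero, Submodule.mem_smul_pointwise_iff_exists] at h4
    obtain ⟨w, -, rfl⟩ := h4
    have h5 : lx (π b) = lx (π x) * w := hX (by
      show X • lx (π b) = X • (lx (π x) * w)
      rw [smul_eq_mul, smul_eq_mul, hu, smul_eq_mul, mul_left_comm])
    obtain ⟨d, s, rfl⟩ := IsLocalization.exists_mk'_eq (q.map π).primeCompl w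
    rw [IsLocalization.mul_mk'_eq_mk'_of_mul, IsLocalization.eq_mk'_iff_mul_eq, ← map_mul,
      IsLocalization.eq_iff_exists (q.map π).primeCompl] at h5
    obtain ⟨m, hm⟩ := h5
    obtain ⟨d, rfl⟩ := Ideal.Quotient.mk_surjective d
    obtain ⟨m₀, hm₀⟩ := Ideal.Quotient.mk_surjective (m : B ⧸ nilradical B)
    obtain ⟨s₀, hs₀⟩ := Ideal.Quotient.mk_surjective (s : B ⧸ nilradical B)
    have hnm : ∀ (r : (q.map π).primeCompl) (r₀ : B), π r₀ = r → r₀ ∉ q := fun r r₀ e h =>
      r.2 (e ▸ Ideal.mem_map_of_mem _ h)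
    refine ⟨m₀ * s₀, fun h => (‹q.IsPrime›.mem_or_mem h).elim (hnm m m₀ hm₀) (hnm s s₀ hs₀),
      m₀ * d, ?_⟩
    rw [← Ideal.Quotient.eq, map_mul, map_mul, map_mul, map_mul]
    rw [hm₀, hs₀]
    linear_combination hm
  refine ⟨?_, flat_of_noEmb hflat hred hS2' h₀⟩
  rw [map_eq_nilradical hflat hred hS2' h₀]
  exact (Ideal.isRadical_iff_quotient_reduced _).1 (Ideal.radical_isRadical _)

end GrothLib.FamCycFlat
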